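import Groth.Agent.Coherent.K49.AmpleCoprod
import Groth.Agent.Sga1.SigmaFinite
import Groth.Agent.S0052
import Mathlib.AlgebraicGeometry.IdealSheaf.Subscheme

/-!
# Ampleness on a finite closed cover (proper over a Noetherian ring)
-/

set_option autoImplicit false
universe u

open CategoryTheory CategoryTheory.Limits AlgebraicGeometry TopologicalSpace Opposite

namespace K49.AmpleClosedCover

/-- For `X` proper over a Noetherian ring: an invertible module is ample if it is ample on the members of a
finite cover by closed subschemes. -/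
theorem isAmple_of_closed_cover {ι : Type u} [Finite ι] (A : Type u) [CommRing A]
    [IsNoetherianRing A] (X : Scheme.{u}) [X.Over (Spec (CommRingCat.of A))]
    [IsProper (X ↘ (Spec (CommRingCat.of A)))] (L : X.Modules) (hL : PicF.IsInvertible L)
    (Z : ι → X.IdealSheafData) (hcov : ∀ x : X, ∃ i, x ∈ (Z i).support)
    (h : ∀ i, CohB1.IsAmple ((Scheme.Modules.pullback (Z i).subschemeι).obj L)) :
    CohB1.IsAmple L := by
  let f : (∐ fun i => (Z i).subscheme) ⟶ X := Sigma.desc (fun i => (Z i).subschemeι)
  have hfin : IsFinite f := Groth.Agent.Sga1.SigmaFinite.isFinite_sigmaDesc _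
  have hsurj : Surjective f := by
    refine ⟨fun x => ?_⟩
    obtain ⟨i, hi⟩ := hcov x
    have hi' : x ∈ Set.range (Z i).subschemeι := by
      rw [Scheme.IdealSheafData.range_subschemeι]; exact hi
    obtain ⟨z, hz⟩ := hi'
    refine ⟨(Sigma.ι (fun i => (Z i).subscheme) i) z, ?_⟩
    rw [← hz, ← Scheme.Hom.comp_apply]
    simp [f]
  have hY : IsProper (f ≫ (X ↘ (Spec (CommRingCat.of A)))) := inferInstance
  refine (Groth.Agent.S0052.result A (X ↘ (Spec (CommRingCat.of A))) _ f rfl L hL).2 ?_
  refine AmpleCoprod.isAmple_sigma _ _ (Groth.Agent.Fdesc.LocGen.isInvertible_pullback f hL) fun i => ?_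
  refine (Groth.Agent.CohqB.AmpCocycle.isAmple_pullback_comp_iff _ f (Z i).subschemeι (by simp [f]) L).2 (h i)

end K49.AmpleClosedCover
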