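import Groth.Agent.CohqB.FinAmple
import Groth.Agent.Fdesc.LocGenGlue
import Mathlib.AlgebraicGeometry.Limits

/-!
# Ampleness on a finite disjoint union

* `exists_extend_zero`: a section over a clopen subscheme extends by zero, with the expected `genLocus`.
* `isAmple_of_clopen_family`: an invertible module on a scheme covered by finitely many pairwise disjoint
  opens `f i : Z i ⟶ X` is ample as soon as its pullbacks are.
* `isAmple_sigma`: the case of `∐ Z`.
-/

set_option autoImplicit false
universe u

open CategoryTheory CategoryTheory.Limits AlgebraicGeometry TopologicalSpace Opposite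

namespace K49.AmpleCoprod

open Groth.Agent.Fdesc.LocGen

variable {X A : Scheme.{u}}

/-- A section over an open-closed piece extends by zero. -/
theorem exists_extend_zero (f : A ⟶ X) [IsOpenImmersion f] (V : X.Opens)
    (hc : f.opensRange ⊔ V = ⊤) (hd : Disjoint f.opensRange V) (M : X.Modules)
    (s : Coh.structureModule A ⟶ (Scheme.Modules.pullback f).obj M) :
    ∃ t : Coh.structureModule X ⟶ M, CohB1.genLocus M t = f ''ᵁ CohB1.genLocus _ s := by
  let e := (Scheme.Modules.restrictFunctorIsoPullback f).app M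
  let s' : Coh.structureModule A ⟶ M.restrict f := s ≫ e.inv
  have hs' : ∀ W : A.Opens, IsGen (sec s' W) ↔ IsGen (sec s W) := by
    intro W
    rw [show sec s' W = e.inv.app W (sec s W) from sec_comp _ _ _, isGen_app_iff]
  let m : Γ(M, f ''ᵁ ⊤) := (toRestrict f).symm (sec s' ⊤)
  have hftop : f ''ᵁ ⊤ = f.opensRange := f.image_top_eq_opensRange
  have hbot : f ''ᵁ ⊤ ⊓ V = ⊥ := by rw [hftop]; exact hd.eq_bot
  obtain ⟨t, ht⟩ := exists_hom_of_family (M := M) (ι := Bool)
    (fun b => if b then f ''ᵁ ⊤ else V) (by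
      rw [eq_top_iff, ← hc, ← hftop]
      refine sup_le ?_ ?_
      · exact le_iSup_of_le true (by simp)
      · exact le_iSup_of_le false (by simp))
    (fun b => match b with | true => m | false => 0) (by
      have hsub : ∀ W : X.Opens, W = ⊥ → ∀ a b : Γ(M, W), a = b := by
        intro W hW a b
        refine res_ext M (ι := PEmpty.{1}) (fun i => i.elim) (fun i => i.elim) ?_ (fun i => i.elim)
        rw [hW]
        exact bot_le
      intro i j
      match i, j with
      | true, true => rfl
      | false, false => rfl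
      | true, false => exact hsub _ (by simpa using hbot) _ _
      | false, true => exact hsub _ (by simpa [inf_comm] using hbot) _ _)
  have ht1 : sec t (f ''ᵁ ⊤) = m := ht true
  have ht2 : sec t V = 0 := ht false
  refine ⟨t, ?_⟩
  -- comparison on opens of `A`
  have key : ∀ W : A.Opens, W ≤ CohB1.genLocus _ s ↔ f ''ᵁ W ≤ CohB1.genLocus M t := by
    intro W
    rw [le_genLocus_iff, le_genLocus_iff, ← hs']
    have h1 : sec t (f ''ᵁ W) = (toRestrict f).symm (sec s' W) := by
      rw [← res_sec t (f.image_mono (le_top : W ≤ ⊤)), ht1, ← res_sec s' (le_top : W ≤ ⊤)]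
      have h2 := res_toRestrict (M := M) f (le_top : W ≤ ⊤) m
      rw [AddEquiv.apply_symm_apply] at h2
      rw [h2, AddEquiv.symm_apply_apply]
    rw [h1, ← isGen_toRestrict_iff f, AddEquiv.apply_symm_apply]
  apply le_antisymm
  · intro x hx
    have hx' : x ∈ f.opensRange ⊔ V := by rw [hc]; trivial
    rcases hx' with ⟨a, rfl⟩ | hxV
    · refine ⟨a, ?_, rfl⟩
      have h3 : f ''ᵁ (f ⁻¹ᵁ (CohB1.genLocus M t)) ≤ CohB1.genLocus M t := f.image_preimage_le _
      exact (key _).2 h3 (show a ∈ f ⁻¹ᵁ (CohB1.genLocus M t) from hx)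
    · exfalso
      let W := V ⊓ CohB1.genLocus M t
      have h1 : IsGen (sec t W) := (le_genLocus_iff _ W).mp inf_le_right
      have h2 : sec t W = 0 := by
        rw [← res_sec t (inf_le_left : W ≤ V), ht2, map_zero]
      rw [h2] at h1
      have h3 : (0 : Γ(X, W)) = 1 := h1.ext (by simp)
      have h4 : W = ⊥ := by
        rw [← X.basicOpen_one (U := W), ← h3, Scheme.basicOpen_zero]
      have h5 : x ∈ W := ⟨hxV, hx⟩
      rw [h4] at h5
      exact h5
  · exact (key _).1 le_rfl

/-- Ampleness can be checked on the pieces of a finite clopen decomposition. -/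
theorem isAmple_of_clopen_family {ι : Type*} [Finite ι] (Z : ι → Scheme.{u}) (f : ∀ i, Z i ⟶ X)
    [∀ i, IsOpenImmersion (f i)] (hcov : ∀ x : X, ∃ i, x ∈ (f i).opensRange)
    (hdis : Pairwise fun i j => Disjoint (f i).opensRange (f j).opensRange)
    (L : X.Modules) (hL : PicF.IsInvertible L)
    (h : ∀ i, CohB1.IsAmple ((Scheme.Modules.pullback (f i)).obj L)) : CohB1.IsAmple L := by
  refine ⟨hL, ?_, fun x => ?_⟩
  · have h1 : (Set.univ : Set X) = ⋃ i, (f i).base '' Set.univ := by
      ext x
      simp only [Set.mem_univ, true_iff, Set.mem_iUnion]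
      obtain ⟨i, a, ha⟩ := hcov x
      exact ⟨i, a, trivial, ha⟩
    refine ⟨?_⟩
    rw [h1]
    refine isCompact_iUnion fun i => ?_
    have := (h i).2.1
    exact isCompact_univ.image (f i).continuous
  · obtain ⟨i, a, rfl⟩ := hcov x
    obtain ⟨n, s, ha, haff⟩ := (h i).2.2 a
    obtain ⟨e⟩ := Groth.Agent.CohqB.FinAmple.nonempty_pullback_tensorPow (f i) hL (n + 1)
    let V : X.Opens := ⨆ j : {j // j ≠ i}, (f j.1).opensRange
    have hc : (f i).opensRange ⊔ V = ⊤ := by
      rw [eq_top_iff]
      intro y _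
      obtain ⟨j, hj⟩ := hcov y
      by_cases hij : j = i
      · subst hij; exact Or.inl hj
      · exact Or.inr (Opens.mem_iSup.2 ⟨⟨j, hij⟩, hj⟩)
    have hd : Disjoint (f i).opensRange V := by
      rw [disjoint_iSup_iff]
      intro j
      exact hdis (Ne.symm j.2)
    obtain ⟨t, ht⟩ := exists_extend_zero (f i) V hc hd (CohB1.tensorPow L (n + 1)) (s ≫ e.inv)
    have h2 : CohB1.genLocus _ (s ≫ e.inv) = CohB1.genLocus _ s := by
      apply le_antisymm
      · rw [le_genLocus_iff, ← isGen_app_iff e.inv, ← sec_comp]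
        exact isGen_sec_genLocus _
      · rw [le_genLocus_iff, sec_comp, isGen_app_iff]
        exact isGen_sec_genLocus _
    refine ⟨n, t, ?_, ?_⟩
    · rw [ht, h2]
      exact ⟨a, ha, rfl⟩
    · rw [ht, h2]
      exact haff.image_of_isOpenImmersion _

/-- Ampleness on a finite coproduct. -/
theorem isAmple_sigma {ι : Type u} [Finite ι] (Z : ι → Scheme.{u}) (L : (∐ Z : Scheme.{u}).Modules)
    (hL : PicF.IsInvertible L)
    (h : ∀ i, CohB1.IsAmple ((Scheme.Modules.pullback (Sigma.ι Z i)).obj L)) : CohB1.IsAmple L := by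
  refine isAmple_of_clopen_family Z (fun i => Sigma.ι Z i) (fun x => ?_) (fun i j hij => ?_) L hL h
  · obtain ⟨i, a, ha⟩ := (sigmaOpenCover Z).exists_eq x
    exact ⟨i, a, ha⟩
  · exact disjoint_opensRange_sigmaι Z i j hij

end K49.AmpleCoprod
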