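import Groth.Prelude.Def_PerfAux
import Groth.Agent.Ega3B.FibreCmp
import Groth.Agent.Ega3B.FibreRank
import Groth.Agent.Ega3B.Master
import Groth.Agent.Ega3A.BcFlat
import Groth.Agent.S2379
import Mathlib.AlgebraicGeometry.FunctionField

/-!
# Betti numbers of the fibres over an affine base and the universal complex
-/

set_option autoImplicit false
universe u

open CategoryTheory CategoryTheory.Limits AlgebraicGeometry Opposite TopologicalSpace

namespace K49.BettiSpec

section Fibre

variable {A : Type u} [CommRing A] {X : Scheme.{u}} (f : X ⟶ Spec (CommRingCat.of A))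

/-- The prime ideal of `A` attached to a point of `Spec A`. -/
abbrev pt (y : Spec (CommRingCat.of A)) : PrimeSpectrum A := y

theorem isPullback_fiber (y : Spec (CommRingCat.of A)) :
    IsPullback (f.fiberι y) (f.fiberToSpecResidueField y ≫ Spec.map (Scheme.Spec.residueFieldIso _ y).inv) f
      (Spec.map (CommRingCat.ofHom (algebraMap A (pt y).asIdeal.ResidueField))) := by
  have h : IsPullback (f.fiberι y) (f.fiberToSpecResidueField y) f
      ((Spec (CommRingCat.of A)).fromSpecResidueField y) := IsPullback.of_hasPullback _ _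
  refine h.of_iso (Iso.refl _) (Iso.refl _) (asIso (Spec.map (Scheme.Spec.residueFieldIso _ y).inv))
    (Iso.refl _) ?_ ?_ ?_ ?_
  · simp
  · simp
  · simp
  · simpa using (Scheme.Spec.map_residueFieldIso_inv_eq_fromSpecResidueField _ y).symm

/-- The evaluation of a function at a point. -/
noncomputable def ev (y : Spec (CommRingCat.of A)) : A →+* (Spec (CommRingCat.of A)).residueField y :=
  (Scheme.Spec.residueFieldIso (CommRingCat.of A) y).inv.hom.comp (algebraMap A (pt y).asIdeal.ResidueField)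

/-- The residue field at a point of the spectrum. -/
noncomputable def σ (y : Spec (CommRingCat.of A)) :
    (Spec (CommRingCat.of A)).residueField y ≃+* (pt y).asIdeal.ResidueField :=
  (Scheme.Spec.residueFieldIso (CommRingCat.of A) y).commRingCatIsoToRingEquiv

theorem σ_ev (y : Spec (CommRingCat.of A)) (a : A) : σ y (ev y a) = algebraMap A _ a :=
  (σ y).apply_symm_apply _

theorem exists_frac (y : Spec (CommRingCat.of A)) (r : (Spec (CommRingCat.of A)).residueField y) :
    ∃ a s : A, ev y s ≠ 0 ∧ ev y s * r = ev y a := by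
  obtain ⟨a, s, hs, h⟩ : ∃ a s : A, algebraMap A (pt y).asIdeal.ResidueField s ≠ 0 ∧
      algebraMap A (pt y).asIdeal.ResidueField s * σ y r = algebraMap A (pt y).asIdeal.ResidueField a := by
    obtain ⟨⟨a', s', hs'⟩, h⟩ := IsLocalization.surj (nonZeroDivisors (A ⧸ (pt y).asIdeal)) (σ y r)
    obtain ⟨a, rfl⟩ := Ideal.Quotient.mk_surjective a'
    obtain ⟨s, rfl⟩ := Ideal.Quotient.mk_surjective s'
    refine ⟨a, s, ?_, ?_⟩
    · exact IsLocalization.to_map_ne_zero_of_mem_nonZeroDivisors (M := nonZeroDivisors (A ⧸ (pt y).asIdeal))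
        (pt y).asIdeal.ResidueField le_rfl hs'
    · rw [mul_comm]
      exact h
  refine ⟨a, s, fun h0 => hs ?_, ?_⟩
  · rw [← σ_ev, h0, map_zero]
  · apply (σ y).injective
    rw [map_mul, σ_ev, σ_ev, h]

/-- Functions of the base acting on a fibre. -/
theorem toGlobal_ev (y : Spec (CommRingCat.of A)) (a : A) :
    Coh.toGlobal (f.fiberToSpecResidueField y ≫ Spec.map (Scheme.Spec.residueFieldIso _ y).inv)
      (algebraMap A (pt y).asIdeal.ResidueField a) =
      Coh.toGlobal (A := (Spec (CommRingCat.of A)).residueField y) (f.fiberToSpecResidueField y) (ev y a) := by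
  have h1 : (f.fiberToSpecResidueField y ≫ Spec.map (Scheme.Spec.residueFieldIso (CommRingCat.of A) y).inv).appTop =
      (Spec.map (Scheme.Spec.residueFieldIso (CommRingCat.of A) y).inv).appTop ≫
        (f.fiberToSpecResidueField y).appTop := Scheme.Hom.comp_appTop _ _
  have h2 := Scheme.ΓSpecIso_inv_naturality (Scheme.Spec.residueFieldIso (CommRingCat.of A) y).inv
  have h3 : Coh.toGlobal (f.fiberToSpecResidueField y ≫ Spec.map (Scheme.Spec.residueFieldIso _ y).inv)
      (algebraMap A (pt y).asIdeal.ResidueField a) =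
      ((Scheme.ΓSpecIso (CommRingCat.of (pt y).asIdeal.ResidueField)).inv ≫
        (f.fiberToSpecResidueField y ≫ Spec.map (Scheme.Spec.residueFieldIso (CommRingCat.of A) y).inv).appTop)
        (algebraMap A (pt y).asIdeal.ResidueField a) := rfl
  rw [h3, h1]
  have h4 : (Scheme.ΓSpecIso (CommRingCat.of (pt y).asIdeal.ResidueField)).inv ≫
      (Spec.map (Scheme.Spec.residueFieldIso (CommRingCat.of A) y).inv).appTop ≫
        (f.fiberToSpecResidueField y).appTop = ((Scheme.Spec.residueFieldIso (CommRingCat.of A) y).inv ≫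
      (Scheme.ΓSpecIso ((Spec (CommRingCat.of A)).residueField y)).inv) ≫ (f.fiberToSpecResidueField y).appTop :=
    (Category.assoc _ _ _).symm.trans (congrArg (· ≫ (f.fiberToSpecResidueField y).appTop) h2.symm)
  exact congr(($h4).hom _)

end Fibre

theorem betti_eq_dRank {A : Type u} [CommRing A] (X : Scheme.{u}) [X.Over (Spec (CommRingCat.of A))]
    (F : X.Modules) (hF : Coh.IsQCoh F) (P : ChainComplex (ModuleCat.{u} A) ℤ) (p : ℕ)
    [Module.Finite A (P.X (-(p : ℤ)))]
    (e' : CohIII.tensorAFunctor A F ⋙ CohIII.HAb X p ≅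
        CohIII.TFun P (-(p : ℤ)) ⋙ forget₂ (ModuleCat.{u} A) AddCommGrpCat.{u})
    (y : Spec (CommRingCat.of A)) :
    Module.Finite ((Spec (CommRingCat.of A)).residueField y) (PerfAux.fiberH (X ↘ Spec (CommRingCat.of A)) F y p) ∧
      PerfAux.betti (X ↘ Spec (CommRingCat.of A)) F y p = CohIII.dRank P (-(p : ℤ)) (pt y) := by
  obtain ⟨e, he⟩ := Groth.Agent.Ega3B.FibreCmp.exists_cmp _ _ (isPullback_fiber (X ↘ Spec (CommRingCat.of A)) y) F hF p
  refine Groth.Agent.Ega3B.FibreRank.finrank_eq_dRank P (-(p : ℤ)) (pt y) (ev y) (σ y) (σ_ev y) (exists_frac y)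
    (e.trans (e'.app _).addCommGroupIsoToAddEquiv) ?_
  intro a w
  have h0 : e (ev y a • w) = ((CohIII.tensorAFunctor A F ⋙ CohIII.HAb X p).map
      (a • 𝟙 (ModuleCat.of A (pt y).asIdeal.ResidueField))).hom (e w) := by
    have h1 := he (algebraMap A (pt y).asIdeal.ResidueField a) w
    rw [Groth.Agent.Ega3B.FibreCmp.mulB_algebraMap, toGlobal_ev] at h1
    exact h1
  have h1 := e'.hom.naturality (a • 𝟙 (ModuleCat.of A (pt y).asIdeal.ResidueField))
  have h2 := congr($(h1) (e w))
  change (e'.hom.app _).hom (e _) = _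
  rw [h0]
  exact h2

/-- The universal complex over a Noetherian affine base, with the Betti numbers of the fibres. -/
theorem exists_complex {A : Type u} [CommRing A] [IsNoetherianRing A] (X : Scheme.{u})
    [X.Over (Spec (CommRingCat.of A))] [IsProper (X ↘ Spec (CommRingCat.of A))]
    (F : X.Modules) (hF : Coh.IsCoh F)
    (hfl : FlatMod.IsFlatOver (X ↘ Spec (CommRingCat.of A)) F) :
    ∃ P : ChainComplex (ModuleCat.{u} A) ℤ,
      (∀ i, Module.Finite A (P.X i) ∧ Module.Flat A (P.X i)) ∧
      (∃ b : ℤ, ∀ i, (i < b ∨ 0 < i) → IsZero (P.X i)) ∧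
      (∀ p : ℕ, Nonempty (P.homology (-(p : ℤ)) ≃ₗ[A] Coh.HH X F p)) ∧
      (∀ (y : Spec (CommRingCat.of A)) (p : ℕ),
        PerfAux.betti (X ↘ Spec (CommRingCat.of A)) F y p = CohIII.dRank P (-(p : ℤ)) (pt y)) := by
  obtain ⟨P, h1, h2, h3, h4⟩ := Groth.Agent.Ega3B.Master.exists_complex' X F hF hfl
  refine ⟨P, h1, h2, h4, fun y p => ?_⟩
  obtain ⟨e⟩ := h3 p
  have := (h1 (-(p : ℤ))).1
  exact (betti_eq_dRank X F hF.1 P p e y).2

/-- Over a discrete valuation ring. -/
theorem betti_eq_iff_free (R : Type u) [CommRing R] [IsDomain R]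
    [IsDiscreteValuationRing R] (X : Scheme.{u}) [X.Over (Spec (CommRingCat.of R))]
    [IsProper (X ↘ Spec (CommRingCat.of R))]
    (F : X.Modules) (hF : Coh.IsCoh F) (hfl : FlatMod.IsFlatOver (X ↘ Spec (CommRingCat.of R)) F)
    (p : ℕ) (s : ↥(Spec (CommRingCat.of R))) (hs : s ≠ genericPoint ↥(Spec (CommRingCat.of R))) :
    PerfAux.betti (X ↘ Spec (CommRingCat.of R)) F s p =
        PerfAux.betti (X ↘ Spec (CommRingCat.of R)) F (genericPoint ↥(Spec (CommRingCat.of R))) p ↔
      Module.Free R (Coh.HH X F p) ∧ Module.Free R (Coh.HH X F (p + 1)) := by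
  obtain ⟨P, h1, -, h2, h3⟩ := exists_complex X F hF hfl
  have hgen : pt (genericPoint ↥(Spec (CommRingCat.of R))) = (⊥ : PrimeSpectrum R) :=
    genericPoint_eq_bot_of_affine (CommRingCat.of R)
  have hclosed : pt s = IsLocalRing.closedPoint R := by
    apply PrimeSpectrum.ext
    have hne : (pt s).asIdeal ≠ ⊥ := fun h => hs (by
      have : pt s = pt (genericPoint ↥(Spec (CommRingCat.of R))) := by
        rw [hgen]
        exact PrimeSpectrum.ext h
      exact this)
    exact IsLocalRing.eq_maximalIdeal (Ring.DimensionLEOne.maximalOfPrime hne (pt s).2)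
  have hfin : ∀ i, Module.Finite R (P.homology i) := fun i => by
    have := (h1 i).1
    exact Groth.Agent.Ega3B.FibreRank.finite_homology P i
  have key := (Groth.Agent.S2379.result P (fun i => (h1 i).2) hfin (-(p : ℤ)) (-((p + 1 : ℕ) : ℤ))
    (by push_cast; ring)).2
  have e1 : Module.finrank (FractionRing R)
      ((CohIII.bcCx (algebraMap R (FractionRing R)) P).homology (-(p : ℤ))) =
      PerfAux.betti (X ↘ Spec (CommRingCat.of R)) F (genericPoint ↥(Spec (CommRingCat.of R))) p := by
    rw [h3, hgen]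
    refine Groth.Agent.Ega3A.BcFlat.finrank_homology_eq_dRank (FractionRing R) ⊥ ?_ P _
    exact ((RingHom.injective_iff_ker_eq_bot _).1 (IsFractionRing.injective R (FractionRing R))).symm
  have e2 : Module.finrank (IsLocalRing.ResidueField R)
      ((CohIII.bcCx (algebraMap R (IsLocalRing.ResidueField R)) P).homology (-(p : ℤ))) =
      PerfAux.betti (X ↘ Spec (CommRingCat.of R)) F s p := by
    rw [h3, hclosed]
    refine Groth.Agent.Ega3A.BcFlat.finrank_homology_eq_dRank (IsLocalRing.ResidueField R) _ ?_ P _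
    exact (IsLocalRing.ker_residue (R := R)).symm
  rw [← e1, ← e2, eq_comm, key]
  obtain ⟨a⟩ := h2 p
  obtain ⟨b⟩ := h2 (p + 1)
  constructor
  · rintro ⟨c, d⟩
    exact ⟨Module.Free.of_equiv a, Module.Free.of_equiv b⟩
  · rintro ⟨c, d⟩
    exact ⟨Module.Free.of_equiv a.symm, Module.Free.of_equiv b.symm⟩

end K49.BettiSpec
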