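import Groth.Agent.Coherent.K53.FlfAdj
import Groth.Agent.CohtopB.ExtRD
import Groth.Agent.Coherent.K50.SectOn

/-!
# Internal Ext out of a tensor product with a finite locally free module

`Ext^q(E ⊗ F, -) ≅ Ext^q(F, -) ⊗ E'` for an exact pairing of `E` and `E'`.
-/

set_option autoImplicit false
universe u w

open CategoryTheory CategoryTheory.Limits AlgebraicGeometry MonoidalCategory

namespace K49.ExtTensor

open scoped Groth.Agent.Dcoh.MonCat

variable {X : Scheme.{u}}

/-- The internal Hom functor, between categories of modules on a scheme. -/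
noncomputable abbrev sHom (F : X.Modules) [ModSite.HasSheafHom (O := X.sheaf) F] : X.Modules ⥤ X.Modules :=
  ModSite.sheafHom (O := X.sheaf) F

instance sHom_additive (F : X.Modules) [ModSite.HasSheafHom (O := X.sheaf) F] : (sHom F).Additive :=
  ModSite.sheafHom_additive (O := X.sheaf) F

/-- `Hom(E ⊗ F, -) ≅ Hom(F, -) ⊗ E'` for an exact pairing of `E` and `E'`. -/
noncomputable def homTensorIso (E E' F : X.Modules) [ExactPairing E E']
    [ModSite.HasSheafHom (O := X.sheaf) F]
    [ModSite.HasSheafHom (O := X.sheaf) (CohB1.tensorMod E F)] :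
    sHom F ⋙ tensorRight E' ≅ sHom (CohB1.tensorMod E F) :=
  (Adjunction.rightAdjointUniq
    (ModSite.sheafHomAdj (O := X.sheaf) (CohB1.tensorMod E F))
    (((K53.FlfAdj.adjR E E').comp (ModSite.sheafHomAdj (O := X.sheaf) F)).ofNatIsoLeft
      (tensorRightTensor (C := X.Modules) E F).symm)).symm

/-- `Ext^q(E ⊗ F, -) ≅ Ext^q(F, -) ⊗ E'` for exact pairings of `E` and `E'` in both orders. -/
noncomputable def extTensorIso (E E' F : X.Modules) [ExactPairing E E'] [ExactPairing E' E]
    [ModSite.HasSheafHom (O := X.sheaf) F]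
    [ModSite.HasSheafHom (O := X.sheaf) (CohB1.tensorMod E F)]
    [HasInjectiveResolutions X.Modules] (q : ℕ) :
    (sHom (CohB1.tensorMod E F)).rightDerived q ≅ (sHom F).rightDerived q ⋙ tensorRight E' := by
  have h1 := K53.FlfAdj.pfl E E'
  have h2 := K53.FlfAdj.pfc E' E
  have a2 : (tensorRight E').Additive := (K53.FlfAdj.adjR E' E).left_adjoint_additive
  exact Groth.Agent.CohtopB.ExtRD.compExact (homTensorIso E E' F) q

theorem nonempty_extTensor (E E' F G : X.Modules) [ExactPairing E E'] [ExactPairing E' E]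
    [ModSite.HasSheafHom (O := X.sheaf) E] [ModSite.HasSheafHom (O := X.sheaf) F]
    [ModSite.HasSheafHom (O := X.sheaf) (CohB1.tensorMod E F)]
    [h : HasInjectiveResolutions (ModSite.Mod X.sheaf)] (q : ℕ) :
    Nonempty (CohB1.tensorMod ((ModSite.extSh (O := X.sheaf) F q).obj G)
        ((ModSite.sheafHom (O := X.sheaf) E).obj (Coh.structureModule X)) ≅
      (ModSite.extSh (O := X.sheaf) (CohB1.tensorMod E F) q).obj G) := by
  have h3 : HasInjectiveResolutions X.Modules := h
  let N : X.Modules := ((sHom F).rightDerived q).obj G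
  exact ⟨(whiskerLeftIso N (K53.FlfAdj.dualIso E E')) ≪≫ ((extTensorIso E E' F q).app G).symm⟩

end K49.ExtTensor
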